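import Groth.Agent.L18.SymSheaf
import Groth.Agent.L16.QAffFactor.Basic
import Groth.Agent.L17.Approx.Extend
import Groth.Agent.L00.QCAlgModule
import Groth.Agent.L16.Exist.AlgClosed
import Groth.Agent.L16.Exist.AlgComplete

/-! # Finite schemes inside the vector bundle of a module generating their algebras -/

set_option autoImplicit false
set_option linter.style.haveILetI false
set_option backward.isDefEq.respectTransparency false
set_option backward.isDefEq.respectTransparency.types false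

noncomputable section

universe u

open CategoryTheory CategoryTheory.Limits AlgebraicGeometry TopologicalSpace Opposite

namespace Groth.L27.AlgFin

variable {S : Scheme.{u}} {Y Y' : Scheme.{u}} (r : Y ⟶ S)

/-- The direct image of the structure module is the underlying module of the direct image algebra. -/
def pushToAlg [QuasiCompact r] [QuasiSeparated r] :
    (Coh.push r).obj (Coh.structureModule Y) ⟶ (RelSpec.QCAlg.directImage r).toModule :=
  ⟨PresheafOfModules.homMk (M₁ := ((Coh.push r).obj (Coh.structureModule Y)).val)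
    (M₂ := (RelSpec.QCAlg.directImage r).toModule.val)
    { app := fun _ => AddCommGrpCat.ofHom (AddMonoidHom.id _)
      naturality := fun _ _ _ => rfl }
    fun _ _ _ => rfl⟩

theorem pushToAlg_app [QuasiCompact r] [QuasiSeparated r] (U : S.Opens)
    (x : Γ((Coh.push r).obj (Coh.structureModule Y), U)) :
    ((pushToAlg r).app U x : Γ(Y, r ⁻¹ᵁ U)) = (x : Γ(Y, r ⁻¹ᵁ U)) := rfl

variable (H : S.Modules) [Coh.IsQCoh H]

/-- The vector bundle of `H`. -/
abbrev V : Scheme.{u} := (Groth.L18.SymSheaf.symAlg H).spec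

/-- Its projection. -/
abbrev π : V H ⟶ S := (Groth.L18.SymSheaf.symAlg H).π

variable [IsAffineHom r]

/-- A module map to the direct image of the structure sheaf gives a map into the vector bundle. -/
theorem exists_lift (v : H ⟶ (Coh.push r).obj (Coh.structureModule Y)) :
    ∃ g : Y ⟶ V H, g ≫ π H = r ∧
      (∀ (U : S.Opens) (hU : IsAffineOpen U), ∃ φ : (Groth.L18.SymSheaf.symAlg H).presheaf.obj (op U) ⟶ Γ(Y, r ⁻¹ᵁ U),
        (r ⁻¹ᵁ U).ι ≫ g = (r ⁻¹ᵁ U).toSpecΓ ≫ Spec.map φ ≫ (Groth.L18.SymSheaf.symAlg H).ι U hU ∧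
        (∀ a : Γ(S, U), φ ((Groth.L18.SymSheaf.symAlg H).str.app (op U) a) = r.app U a) ∧
        ∀ m : Γ(H, U), φ ((Groth.L18.SymSheaf.j H).app U m) = v.app U m) := by
  let B := RelSpec.QCAlg.directImage r
  obtain ⟨ψ, hψ, -⟩ := Groth.L18.SymSheaf.isSymAlg H B (v ≫ pushToAlg r)
  refine ⟨Groth.L16.QAffFactor.toHull r ≫ RelSpec.QCAlg.specMap ψ, ?_, fun U hU =>
    ⟨ψ.hom.app (op U), ?_, fun a => ?_, fun m => ?_⟩⟩
  · rw [Category.assoc, RelSpec.QCAlg.specMap_π]
    exact Groth.L16.QAffFactor.toHull_π r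
  · rw [← Category.assoc, Groth.L16.QAffFactor.ι_toHull r ⟨U, hU⟩, Category.assoc, RelSpec.QCAlg.ι_specMap]
  · exact ConcreteCategory.congr_hom (NatTrans.congr_app ψ.comm (op U)) a
  · exact congrArg (fun t : H ⟶ B.toModule => t.app U m) hψ

/-- If the module map is surjective on affine opens the map into the bundle is a closed immersion. -/
theorem isClosedImmersion_lift (v : H ⟶ (Coh.push r).obj (Coh.structureModule Y))
    (hv : ∀ U : S.Opens, IsAffineOpen U → Function.Surjective (v.app U))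
    (g : Y ⟶ V H) (hg : g ≫ π H = r)
    (hgU : ∀ (U : S.Opens) (hU : IsAffineOpen U), ∃ φ : (Groth.L18.SymSheaf.symAlg H).presheaf.obj (op U) ⟶ Γ(Y, r ⁻¹ᵁ U),
        (r ⁻¹ᵁ U).ι ≫ g = (r ⁻¹ᵁ U).toSpecΓ ≫ Spec.map φ ≫ (Groth.L18.SymSheaf.symAlg H).ι U hU ∧
        (∀ a : Γ(S, U), φ ((Groth.L18.SymSheaf.symAlg H).str.app (op U) a) = r.app U a) ∧
        ∀ m : Γ(H, U), φ ((Groth.L18.SymSheaf.j H).app U m) = v.app U m) :
    IsClosedImmersion g := by
  let A := Groth.L18.SymSheaf.symAlg H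
  refine IsZariskiLocalAtTarget.of_openCover (P := @IsClosedImmersion)
    ({ I₀ := S.affineOpens, X := fun U => Spec (A.presheaf.obj (op U.1)), f := fun U => A.ι U.1 U.2
       mem₀ := by
        rw [Scheme.presieve₀_mem_precoverage_iff]
        refine ⟨fun z => ?_, fun y => inferInstance⟩
        obtain ⟨U, hU, hzU, -⟩ := exists_isAffineOpen_mem_and_subset (x := A.π z) (U := ⊤) trivial
        exact ⟨⟨U, hU⟩, show z ∈ (A.ι U hU).opensRange from (A.π_preimage U hU) ▸ hzU⟩ } :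
      A.spec.OpenCover) fun U => ?_
  obtain ⟨φ, hφ, -, hφm⟩ := hgU U.1 U.2
  haveI : IsAffine ((r ⁻¹ᵁ U.1 : Y.Opens) : Scheme.{u}) := U.2.preimage r
  haveI : IsClosedImmersion (Spec.map φ) := IsClosedImmersion.spec_of_surjective _ fun b => by
    obtain ⟨m, hm⟩ := hv U.1 U.2 b
    exact ⟨(Groth.L18.SymSheaf.j H).app U.1 m, (hφm m).trans hm⟩
  haveI : IsIso (r ⁻¹ᵁ U.1).toSpecΓ := by rw [Scheme.Opens.toSpecΓ]; infer_instance
  have hk : (r ⁻¹ᵁ U.1).ι ≫ g = ((r ⁻¹ᵁ U.1).toSpecΓ ≫ Spec.map φ) ≫ A.ι U.1 U.2 := by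
    rw [hφ, Category.assoc]
  have hpb : IsPullback ((r ⁻¹ᵁ U.1).toSpecΓ ≫ Spec.map φ) (r ⁻¹ᵁ U.1).ι (A.ι U.1 U.2) g :=
    IsOpenImmersion.isPullback _ _ _ _ hk (by
      rw [Scheme.Opens.opensRange_ι, ← A.π_preimage U.1 U.2, ← Scheme.Hom.comp_preimage]
      exact congrArg (fun q : Y ⟶ S => q ⁻¹ᵁ U.1) hg)
  refine (MorphismProperty.arrow_mk_iso_iff @IsClosedImmersion ?_).mp
    (inferInstance : IsClosedImmersion ((r ⁻¹ᵁ U.1).toSpecΓ ≫ Spec.map φ))
  exact Arrow.isoMk hpb.flip.isoPullback (Iso.refl _)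
    (by exact hpb.flip.isoPullback_hom_snd.trans (Category.comp_id _).symm)

/-- The maps into the bundle are compatible with transition maps. -/
theorem lift_comp (r' : Y' ⟶ S) [IsAffineHom r'] (t : Y ⟶ Y') (htr : r = t ≫ r')
    (v : H ⟶ (Coh.push r).obj (Coh.structureModule Y)) (v' : H ⟶ (Coh.push r').obj (Coh.structureModule Y'))
    (hvv : ∀ (U : S.Opens) (m : Γ(H, U)),
      (v.app U m : Γ(Y, r ⁻¹ᵁ U)) = t.appLE (r' ⁻¹ᵁ U) (r ⁻¹ᵁ U) (by subst htr; rfl) (v'.app U m))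
    (g : Y ⟶ V H) (g' : Y' ⟶ V H)
    (hgU : ∀ (U : S.Opens) (hU : IsAffineOpen U), ∃ φ : (Groth.L18.SymSheaf.symAlg H).presheaf.obj (op U) ⟶ Γ(Y, r ⁻¹ᵁ U),
        (r ⁻¹ᵁ U).ι ≫ g = (r ⁻¹ᵁ U).toSpecΓ ≫ Spec.map φ ≫ (Groth.L18.SymSheaf.symAlg H).ι U hU ∧
        (∀ a : Γ(S, U), φ ((Groth.L18.SymSheaf.symAlg H).str.app (op U) a) = r.app U a) ∧
        ∀ m : Γ(H, U), φ ((Groth.L18.SymSheaf.j H).app U m) = v.app U m)
    (hgU' : ∀ (U : S.Opens) (hU : IsAffineOpen U), ∃ φ : (Groth.L18.SymSheaf.symAlg H).presheaf.obj (op U) ⟶ Γ(Y', r' ⁻¹ᵁ U),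
        (r' ⁻¹ᵁ U).ι ≫ g' = (r' ⁻¹ᵁ U).toSpecΓ ≫ Spec.map φ ≫ (Groth.L18.SymSheaf.symAlg H).ι U hU ∧
        (∀ a : Γ(S, U), φ ((Groth.L18.SymSheaf.symAlg H).str.app (op U) a) = r'.app U a) ∧
        ∀ m : Γ(H, U), φ ((Groth.L18.SymSheaf.j H).app U m) = v'.app U m) :
    t ≫ g' = g := by
  subst htr
  let A := Groth.L18.SymSheaf.symAlg H
  refine Scheme.Cover.hom_ext (Y.openCoverOfIsOpenCover _
    (.comap (iSup_affineOpens_eq_top S) (t ≫ r').base.hom)) _ _ fun U ↦ ?_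
  show ((t ≫ r') ⁻¹ᵁ U.1).ι ≫ t ≫ g' = ((t ≫ r') ⁻¹ᵁ U.1).ι ≫ g
  obtain ⟨φ, hφ, hφa, hφm⟩ := hgU U.1 U.2
  obtain ⟨φ', hφ', hφa', hφm'⟩ := hgU' U.1 U.2
  let τ := t.appLE (r' ⁻¹ᵁ U.1) ((t ≫ r') ⁻¹ᵁ U.1) le_rfl
  have hring : φ = φ' ≫ τ := by
    refine CommRingCat.hom_ext (RingHom.ext fun a => ?_)
    obtain ⟨b, rfl⟩ := (Groth.L18.SymSheaf.secEquiv H U.1 U.2).symm.surjective a
    refine RingHom.congr_fun (Groth.L18.SymRing.ringHom_ext
      (f := φ.hom.comp (Groth.L18.SymSheaf.secEquiv H U.1 U.2).symm.toRingHom)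
      (f' := (φ' ≫ τ).hom.comp (Groth.L18.SymSheaf.secEquiv H U.1 U.2).symm.toRingHom) (fun c => ?_) (fun m => ?_)) b
    · have hc : (Groth.L18.SymSheaf.secEquiv H U.1 U.2).symm.toRingHom (algebraMap _ _ c) =
          (A.str.app (op U.1)).hom c := by
        apply (Groth.L18.SymSheaf.secEquiv H U.1 U.2).injective
        rw [Groth.L18.SymSheaf.secEquiv_str]
        exact (Groth.L18.SymSheaf.secEquiv H U.1 U.2).apply_symm_apply _
      rw [RingHom.comp_apply, RingHom.comp_apply, hc]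
      refine (hφa c).trans ?_
      show (t ≫ r').app U.1 c = τ (φ' (A.str.app (op U.1) c))
      rw [hφa' c, Scheme.Hom.comp_app]
      exact (ConcreteCategory.congr_hom (Scheme.Hom.app_eq_appLE t) _)
    · have hm : (Groth.L18.SymSheaf.secEquiv H U.1 U.2).symm.toRingHom (SymmetricAlgebra.ι _ Γ(H, U.1) m) =
          (Groth.L18.SymSheaf.j H).app U.1 m := by
        apply (Groth.L18.SymSheaf.secEquiv H U.1 U.2).injective
        rw [Groth.L18.SymSheaf.secEquiv_j H U.1 U.2]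
        exact (Groth.L18.SymSheaf.secEquiv H U.1 U.2).apply_symm_apply _
      rw [RingHom.comp_apply, RingHom.comp_apply, hm]
      refine (hφm m).trans ?_
      show _ = τ (φ' _)
      rw [hφm' m]
      exact hvv U.1 m
  have hle : (t ≫ r') ⁻¹ᵁ U.1 ≤ t ⁻¹ᵁ (r' ⁻¹ᵁ U.1) := le_rfl
  rw [← Category.assoc, ← Scheme.Hom.resLE_comp_ι t hle, Category.assoc, hφ', hφ, hring, Spec.map_comp]
  simp only [τ, Category.assoc]
  exact ((Scheme.Opens.toSpecΓ_SpecMap_appLE_assoc t (r' ⁻¹ᵁ U.1) ((t ≫ r') ⁻¹ᵁ U.1) hle _)).symm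

/-- The bundle of a coherent module is of finite type. -/
theorem locallyOfFiniteType_π (hH : Coh.IsCoh H) : LocallyOfFiniteType (π H) := by
  let A := Groth.L18.SymSheaf.symAlg H
  refine IsZariskiLocalAtSource.of_openCover (P := @LocallyOfFiniteType)
    ({ I₀ := S.affineOpens, X := fun U => Spec (A.presheaf.obj (op U.1)), f := fun U => A.ι U.1 U.2
       mem₀ := by
        rw [Scheme.presieve₀_mem_precoverage_iff]
        refine ⟨fun z => ?_, fun y => inferInstance⟩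
        obtain ⟨U, hU, hzU, -⟩ := exists_isAffineOpen_mem_and_subset (x := A.π z) (U := ⊤) trivial
        exact ⟨⟨U, hU⟩, show z ∈ (A.ι U hU).opensRange from (A.π_preimage U hU) ▸ hzU⟩ } :
      A.spec.OpenCover) fun U => ?_
  show LocallyOfFiniteType (A.ι U.1 U.2 ≫ A.π)
  rw [RelSpec.QCAlg.ι_π]
  haveI : Module.Finite Γ(S, U.1) Γ(H, U.1) := Groth.L20.ModStalk.finite_sections H hH U.2
  haveI : LocallyOfFiniteType (Spec.map (A.str.app (op U.1))) := by
    refine (HasRingHomProperty.Spec_iff (P := @LocallyOfFiniteType)).mpr ?_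
    have hft : Algebra.FiniteType Γ(S, U.1) (SymmetricAlgebra Γ(S, U.1) Γ(H, U.1)) := by
      classical
      obtain ⟨s, hs⟩ := (inferInstance : Module.Finite Γ(S, U.1) Γ(H, U.1))
      refine ⟨⟨s.image (SymmetricAlgebra.ι _ _), top_le_iff.1 fun x _ => ?_⟩⟩
      induction x using SymmetricAlgebra.induction with
      | algebraMap c => exact Subalgebra.algebraMap_mem _ c
      | ι m =>
        have hm : m ∈ Submodule.span Γ(S, U.1) (s : Set Γ(H, U.1)) := hs ▸ Submodule.mem_top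
        induction hm using Submodule.span_induction with
        | mem y hy => exact Algebra.subset_adjoin (Finset.mem_coe.2 (Finset.mem_image_of_mem _ hy))
        | zero => rw [map_zero]; exact zero_mem _
        | add a b _ _ ha hb => rw [map_add]; exact add_mem (ha trivial) (hb trivial)
        | smul c a _ ha => rw [map_smul]; exact Subalgebra.smul_mem _ (ha trivial) c
      | mul a b ha hb => exact mul_mem (ha trivial) (hb trivial)
      | add a b ha hb => exact add_mem (ha trivial) (hb trivial)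
    have h2 : (algebraMap Γ(S, U.1) (SymmetricAlgebra Γ(S, U.1) Γ(H, U.1))).FiniteType :=
      RingHom.finiteType_algebraMap.mpr hft
    have heq : (A.str.app (op U.1)).hom = (Groth.L18.SymSheaf.secEquiv H U.1 U.2).symm.toRingHom.comp
        (algebraMap Γ(S, U.1) (SymmetricAlgebra Γ(S, U.1) Γ(H, U.1))) := by
      refine RingHom.ext fun c => ?_
      apply (Groth.L18.SymSheaf.secEquiv H U.1 U.2).injective
      refine (Groth.L18.SymSheaf.secEquiv_str H U.1 U.2 c).trans ?_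
      exact ((Groth.L18.SymSheaf.secEquiv H U.1 U.2).apply_symm_apply _).symm
    rw [heq]
    exact RingHom.FiniteType.comp (RingHom.FiniteType.of_surjective _ (RingEquiv.surjective _)) h2
  infer_instance

end Groth.L27.AlgFin
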