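import Groth.Agent.L27.AlgFin.Push
import Groth.Agent.L27.AlgFin.Embed
import Groth.Agent.S0040

/-! # Algebraization of formal finite schemes -/

set_option autoImplicit false
set_option linter.style.haveILetI false
set_option backward.isDefEq.respectTransparency false
set_option backward.isDefEq.respectTransparency.types false

universe u

open CategoryTheory CategoryTheory.Limits AlgebraicGeometry TopologicalSpace Opposite

noncomputable section

namespace Groth.L27.AlgFin

open Groth.L16 Groth.L16.Exist Groth.L16.Exist.Adic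
open Formal (smulMod modPow modPowπ modPowTrans modPowπ_trans)

variable {A : Type u} [CommRing A]

theorem thickTrans_ι {X : Scheme.{u}} (f : X ⟶ Spec (CommRingCat.of A)) (I : Ideal A) (n : ℕ) :
    CohB1.thickTrans f I n ≫ CohB1.thickι f I (n + 1) = CohB1.thickι f I n :=
  (pullback.lift_fst _ _ _).trans (Category.comp_id _)

theorem isPullback_thickTrans {X : Scheme.{u}} (f : X ⟶ Spec (CommRingCat.of A)) (I : Ideal A) (n : ℕ) :
    IsPullback (CohB1.thickTrans f I n) (CohB1.thickToBase f I n) (CohB1.thickToBase f I (n + 1))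
      (CohB1.specQuotTrans I n) := by
  refine IsPullback.of_right ?_ ?_ (IsPullback.of_hasPullback f (CohB1.specQuot I (n + 1)))
  · have e1 : CohB1.thickTrans f I n ≫ pullback.fst f (CohB1.specQuot I (n + 1)) =
        pullback.fst f (CohB1.specQuot I n) := thickTrans_ι f I n
    rw [e1, CohB1.specQuotTrans_specQuot]
    exact IsPullback.of_hasPullback f (CohB1.specQuot I n)
  · exact pullback.lift_snd _ _ _

/-- The map of thickenings induced by a morphism over the base. -/
def mapThick {X V : Scheme.{u}} (f : X ⟶ Spec (CommRingCat.of A)) (a : V ⟶ X) (I : Ideal A) (n : ℕ) :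
    CohB1.thick (a ≫ f) I n ⟶ CohB1.thick f I n :=
  pullback.map (a ≫ f) (CohB1.specQuot I n) f (CohB1.specQuot I n) a (𝟙 _) (𝟙 _)
    (Category.comp_id _) ((Category.comp_id _).trans (Category.id_comp _).symm)

theorem mapThick_ι {X V : Scheme.{u}} (f : X ⟶ Spec (CommRingCat.of A)) (a : V ⟶ X) (I : Ideal A) (n : ℕ) :
    mapThick f a I n ≫ CohB1.thickι f I n = CohB1.thickι (a ≫ f) I n ≫ a :=
  pullback.lift_fst _ _ _

theorem mapThick_toBase {X V : Scheme.{u}} (f : X ⟶ Spec (CommRingCat.of A)) (a : V ⟶ X) (I : Ideal A) (n : ℕ) :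
    mapThick f a I n ≫ CohB1.thickToBase f I n = CohB1.thickToBase (a ≫ f) I n :=
  (pullback.lift_snd _ _ _).trans (Category.comp_id _)

theorem isPullback_mapThick {X V : Scheme.{u}} (f : X ⟶ Spec (CommRingCat.of A)) (a : V ⟶ X) (I : Ideal A) (n : ℕ) :
    IsPullback (CohB1.thickι (a ≫ f) I n) (mapThick f a I n) a (CohB1.thickι f I n) := by
  refine IsPullback.of_bot (v₂₁ := CohB1.thickToBase f I n) (v₂₂ := f) ?_ (mapThick_ι f a I n).symm
    (IsPullback.of_hasPullback f (CohB1.specQuot I n))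
  rw [mapThick_toBase]
  exact IsPullback.of_hasPullback (a ≫ f) (CohB1.specQuot I n)

theorem isPullback_mapThick_trans {X V : Scheme.{u}} (f : X ⟶ Spec (CommRingCat.of A)) (a : V ⟶ X) (I : Ideal A)
    (k : ℕ) : IsPullback (CohB1.thickTrans (a ≫ f) I k) (mapThick f a I k) (mapThick f a I (k + 1))
      (CohB1.thickTrans f I k) := by
  refine IsPullback.of_right ?_ ?_ (isPullback_mapThick f a I (k + 1))
  · rw [thickTrans_ι, thickTrans_ι]; exact isPullback_mapThick f a I k
  · refine pullback.hom_ext ?_ ?_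
    · show (CohB1.thickTrans (a ≫ f) I k ≫ mapThick f a I (k + 1)) ≫ CohB1.thickι f I (k + 1) =
        (mapThick f a I k ≫ CohB1.thickTrans f I k) ≫ CohB1.thickι f I (k + 1)
      rw [Category.assoc, Category.assoc, mapThick_ι, thickTrans_ι, mapThick_ι, ← Category.assoc, thickTrans_ι]
    · show (CohB1.thickTrans (a ≫ f) I k ≫ mapThick f a I (k + 1)) ≫ CohB1.thickToBase f I (k + 1) =
        (mapThick f a I k ≫ CohB1.thickTrans f I k) ≫ CohB1.thickToBase f I (k + 1)
      rw [Category.assoc, Category.assoc, mapThick_toBase, (isPullback_thickTrans (a ≫ f) I k).w,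
        (isPullback_thickTrans f I k).w, ← Category.assoc, mapThick_toBase]

/-- Systems in a scheme over `X` lying over a system over `X` are cartesian. -/
theorem isPullback_lift_system {X V Y Y' : Scheme.{u}} (f : X ⟶ Spec (CommRingCat.of A)) (a : V ⟶ X) (I : Ideal A)
    (k : ℕ) (t : Y ⟶ Y') (y : Y ⟶ CohB1.thick f I k) (y' : Y' ⟶ CohB1.thick f I (k + 1))
    (ht : IsPullback t y y' (CohB1.thickTrans f I k)) (g : Y ⟶ V) (g' : Y' ⟶ V) (hg : t ≫ g' = g)
    (z : Y ⟶ CohB1.thick (a ≫ f) I k) (z' : Y' ⟶ CohB1.thick (a ≫ f) I (k + 1))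
    (hz1 : z ≫ CohB1.thickι (a ≫ f) I k = g) (hz1' : z' ≫ CohB1.thickι (a ≫ f) I (k + 1) = g')
    (hz : z ≫ mapThick f a I k = y) (hz' : z' ≫ mapThick f a I (k + 1) = y') :
    IsPullback t z z' (CohB1.thickTrans (a ≫ f) I k) := by
  have hw : t ≫ z' = z ≫ CohB1.thickTrans (a ≫ f) I k := by
    refine pullback.hom_ext ?_ ?_
    · show (t ≫ z') ≫ CohB1.thickι (a ≫ f) I (k + 1) =
        (z ≫ CohB1.thickTrans (a ≫ f) I k) ≫ CohB1.thickι (a ≫ f) I (k + 1)
      rw [Category.assoc, hz1', hg, Category.assoc, thickTrans_ι, hz1]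
    · show (t ≫ z') ≫ CohB1.thickToBase (a ≫ f) I (k + 1) =
        (z ≫ CohB1.thickTrans (a ≫ f) I k) ≫ CohB1.thickToBase (a ≫ f) I (k + 1)
      rw [Category.assoc, ← mapThick_toBase f a I (k + 1), reassoc_of% hz', Category.assoc,
        mapThick_toBase f a I (k + 1), (isPullback_thickTrans (a ≫ f) I k).w, ← mapThick_toBase f a I k,
        Category.assoc, reassoc_of% hz, reassoc_of% ht.w, (isPullback_thickTrans f I k).w]
  refine IsPullback.of_bot ?_ hw (isPullback_mapThick_trans f a I k)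
  rw [hz, hz']
  exact ht

/-- The transition of the pushforward system on sections. -/
theorem pushTr_structure {X : Scheme.{u}} (Xs : ℕ → Scheme.{u}) (i : (k : ℕ) → (Xs k ⟶ Xs (k + 1)))
    (e : (k : ℕ) → (Xs k ⟶ X)) (he : ∀ k, e k = i k ≫ e (k + 1)) (k : ℕ) (U : X.Opens)
    (z : Γ((Coh.push (e (k + 1))).obj (Coh.structureModule (Xs (k + 1))), U)) :
    ((pushTr e he (fun k => Coh.structureModule (Xs k)) (fun k => Groth.L29.LocFree.pullbackUnitIso (i k)) k).app U z :
        Γ(Xs k, e k ⁻¹ᵁ U)) =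
      (i k).appLE (e (k + 1) ⁻¹ᵁ U) (e k ⁻¹ᵁ U) (by rw [he k]; rfl) (z : Γ(Xs (k + 1), e (k + 1) ⁻¹ᵁ U)) := by
  have h : pushTr e he (fun k => Coh.structureModule (Xs k)) (fun k => Groth.L29.LocFree.pullbackUnitIso (i k)) k =
      (Coh.push (e (k + 1))).map (ClSub.unitToPush (i k)) ≫
        (Scheme.Modules.pushforwardComp (i k) (e (k + 1))).hom.app _ ≫
        (Scheme.Modules.pushforwardCongr (he k).symm).hom.app _ := by
    simp only [pushTr, Iso.trans_hom, Functor.mapIso_hom, Iso.app_hom, ← Functor.map_comp_assoc,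
      unit_pullbackUnitIso]
  rw [h]
  show ((Coh.structureModule (Xs k)).presheaf.map
      (eqToHom (show e k ⁻¹ᵁ U = (i k ≫ e (k + 1)) ⁻¹ᵁ U by rw [he k])).op)
        ((i k).app (e (k + 1) ⁻¹ᵁ U) z) = _
  rw [Scheme.Hom.app_eq_appLE]
  exact ConcreteCategory.congr_hom (Scheme.Hom.appLE_map (i k) _ _) z

/-- A formal finite scheme with proper special fibre comes from a finite scheme, proper over the base. -/
theorem exists_algebraization [IsNoetherianRing A]
    (I : Ideal A) [IsAdicComplete I A] {X : Scheme.{u}} (f : X ⟶ Spec (CommRingCat.of A))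
    [IsSeparated f] [LocallyOfFiniteType f] [QuasiCompact f]
    (Y : ℕ → Scheme.{u}) (y : (n : ℕ) → (Y n ⟶ CohB1.thick f I n)) (t : (n : ℕ) → (Y n ⟶ Y (n + 1)))
    (hy : ∀ n, IsFinite (y n))
    (ht : ∀ n, IsPullback (t n) (y n) (y (n + 1)) (CohB1.thickTrans f I n))
    (hp : IsProper (y 0 ≫ CohB1.thickToBase f I 0)) :
    ∃ (W : Scheme.{u}) (i : W ⟶ X) (w : (n : ℕ) → (Y n ⟶ W)), IsFinite i ∧
      IsProper (i ≫ f) ∧ (∀ n, w n = t n ≫ w (n + 1)) ∧
      ∀ n, IsPullback (w n) (y n) i (CohB1.thickι f I n) := by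
  letI : X.Over (Spec (CommRingCat.of A)) := ⟨f⟩
  haveI : IsSeparated (X ↘ Spec (CommRingCat.of A)) := ‹IsSeparated f›
  haveI : LocallyOfFiniteType (X ↘ Spec (CommRingCat.of A)) := ‹LocallyOfFiniteType f›
  haveI : QuasiCompact (X ↘ Spec (CommRingCat.of A)) := ‹QuasiCompact f›
  haveI : IsLocallyNoetherian X := LocallyOfFiniteType.isLocallyNoetherian f
  haveI : CompactSpace X := QuasiCompact.compactSpace_of_compactSpace f
  haveI : AlgebraicGeometry.IsNoetherian X := {}
  haveI hclq : ∀ k, IsClosedImmersion (CohB1.specQuot I k) := fun k => isClosedImmersion_specQuot I k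
  haveI : ∀ k, IsClosedImmersion (CohB1.thickι f I k) := fun k =>
    MorphismProperty.pullback_fst (P := @IsClosedImmersion) _ _ (hclq k)
  letI : ∀ k, (Y k).Over (Spec (CommRingCat.of A)) := fun k =>
    ⟨(y k ≫ CohB1.thickToBase f I k) ≫ CohB1.specQuot I k⟩
  have S := isSys_of_cart I (Xs := Y) (p := fun k => y k ≫ CohB1.thickToBase f I k) (i := t)
    (fun k => rfl) fun k => (ht k).paste_vert (isPullback_thickTrans f I k)
  haveI hp0 : IsProper (Y 0 ↘ Spec (CommRingCat.of A)) := by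
    haveI := hp
    exact inferInstanceAs (IsProper ((y 0 ≫ CohB1.thickToBase f I 0) ≫ CohB1.specQuot I 0))
  let r : (k : ℕ) → (Y k ⟶ X) := fun k => y k ≫ CohB1.thickι f I k
  have hr : ∀ k, r k = t k ≫ r (k + 1) := fun k => by
    show y k ≫ CohB1.thickι f I k = t k ≫ y (k + 1) ≫ CohB1.thickι f I (k + 1)
    rw [← Category.assoc, (ht k).w, Category.assoc]
    exact congrArg (y k ≫ ·) (thickTrans_ι f I k).symm
  have hfin : ∀ k, IsFinite (r k) := fun k => by
    haveI := hy k
    exact inferInstanceAs (IsFinite (y k ≫ CohB1.thickι f I k))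
  haveI := hfin
  have hbase : ∀ k, r k ≫ (X ↘ Spec (CommRingCat.of A)) = Y k ↘ Spec (CommRingCat.of A) := fun k => by
    show (y k ≫ CohB1.thickι f I k) ≫ f = (y k ≫ CohB1.thickToBase f I k) ≫ CohB1.specQuot I k
    rw [Category.assoc, Category.assoc]
    exact congrArg (y k ≫ ·) pullback.condition
  haveI : IsLocallyNoetherian (Y 0) := LocallyOfFiniteType.isLocallyNoetherian (r 0)
  haveI := isLocallyNoetherian S
  let N : (k : ℕ) → (Y k).Modules := fun k => Coh.structureModule (Y k)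
  have hN : ∀ k, Coh.IsCoh (N k) := fun k =>
    ProperFinite.isCoh_of_isInvertible (Groth.L18.Ample.isInvertible_structureModule _)
  let G := pushSys r hr N fun k => Groth.L29.LocFree.pullbackUnitIso (t k)
  have hG : Formal.IsCohFormal I G := isCohFormal_pushSys_finite r hr N _ S hfin hbase hN
  have hG0 : ProperSupp (X ↘ Spec (CommRingCat.of A)) (G.obj (op 0)) := by
    haveI : IsProper (r 0 ≫ (X ↘ Spec (CommRingCat.of A))) := by rw [hbase]; infer_instance
    exact ⟨_, Groth.L17.ProperOver.isProperOver_range _ (r 0),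
      (support_push_image (r 0) (hN 0)).trans (Set.image_subset_range _ _)⟩
  obtain ⟨H, hH, -, ⟨ε⟩⟩ := algebraisableSupp I X G hG hG0
  haveI : Coh.IsQCoh H := hH.1
  let v : ∀ k, H ⟶ (Coh.push (r k)).obj (N k) := fun k => modPowπ I (k + 1) H ≫ ε.hom.app (op k)
  have hv : ∀ k, v (k + 1) ≫ G.map (homOfLE (Nat.le_succ k)).op = v k := fun k => by
    show (modPowπ I (k + 1 + 1) H ≫ ε.hom.app (op (k + 1))) ≫ _ = modPowπ I (k + 1) H ≫ ε.hom.app (op k)
    refine ((Category.assoc _ _ _).trans (congrArg (modPowπ I (k + 1 + 1) H ≫ ·)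
      (ε.hom.naturality (homOfLE (Nat.le_succ k)).op).symm)).trans ?_
    refine (Category.assoc _ _ _).symm.trans (congrArg (· ≫ ε.hom.app (op k)) ?_)
    exact (congrArg (modPowπ I (k + 1 + 1) H ≫ ·) (Existence.completion_tr I H k)).trans (modPowπ_trans I (k + 1) H)
  have hvs : ∀ (k : ℕ) (U : X.Opens), IsAffineOpen U → Function.Surjective ((v k).app U) := fun k U hU => by
    haveI := Existence.epi_modPowπ I (k + 1) H
    haveI : Epi (v k) := epi_comp _ _
    haveI : Coh.IsQCoh ((Coh.push (r k)).obj (N k)) := (hG.1 k).1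
    exact Groth.L16.AffineBC.surjective_app_of_epi (v k) hU
  have hvv : ∀ (k : ℕ) (U : X.Opens) (m : Γ(H, U)),
      ((v k).app U m : Γ(Y k, r k ⁻¹ᵁ U)) =
        (t k).appLE (r (k + 1) ⁻¹ᵁ U) (r k ⁻¹ᵁ U) (by rw [hr k]; rfl) ((v (k + 1)).app U m) := by
    intro k U m
    refine (congrArg (fun q => Scheme.Modules.Hom.app q U m) (hv k)).symm.trans ?_
    show (G.map (homOfLE (Nat.le_succ k)).op).app U ((v (k + 1)).app U m) = _
    rw [pushSys_map]
    exact pushTr_structure Y t r hr k U _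
  choose g hgπ hgU using fun k => exists_lift (r k) H (v k)
  haveI hgcl : ∀ k, IsClosedImmersion (g k) := fun k =>
    isClosedImmersion_lift (r k) H (v k) (hvs k) (g k) (hgπ k) (hgU k)
  have hgt : ∀ k, t k ≫ g (k + 1) = g k := fun k =>
    lift_comp (r k) H (r (k + 1)) (t k) (hr k) (v k) (v (k + 1)) (hvv k) (g k) (g (k + 1)) (hgU k) (hgU (k + 1))
  -- the system inside the bundle
  haveI : LocallyOfFiniteType (π H) := locallyOfFiniteType_π H hH
  let q : V H ⟶ Spec (CommRingCat.of A) := π H ≫ f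
  haveI : IsSeparated q := inferInstanceAs (IsSeparated (π H ≫ f))
  haveI : LocallyOfFiniteType q := inferInstanceAs (LocallyOfFiniteType (π H ≫ f))
  haveI : QuasiCompact q := inferInstanceAs (QuasiCompact (π H ≫ f))
  have hgq : ∀ k, g k ≫ q = (y k ≫ CohB1.thickToBase f I k) ≫ CohB1.specQuot I k := fun k => by
    show g k ≫ π H ≫ f = _
    rw [← Category.assoc, hgπ k]
    exact hbase k
  let z : ∀ k, Y k ⟶ CohB1.thick q I k := fun k => pullback.lift (g k) (y k ≫ CohB1.thickToBase f I k) (hgq k)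
  have hz1 : ∀ k, z k ≫ CohB1.thickι q I k = g k := fun k => pullback.lift_fst _ _ _
  have hz : ∀ k, IsClosedImmersion (z k) := fun k => by
    haveI : IsClosedImmersion (z k ≫ CohB1.thickι q I k) := by rw [hz1]; exact hgcl k
    exact IsClosedImmersion.of_comp (z k) (CohB1.thickι q I k)
  have hzμ : ∀ k, z k ≫ mapThick f (π H) I k = y k := fun k => by
    refine pullback.hom_ext ?_ ?_
    · show (z k ≫ mapThick f (π H) I k) ≫ CohB1.thickι f I k = y k ≫ CohB1.thickι f I k
      rw [Category.assoc, mapThick_ι, reassoc_of% hz1 k]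
      exact hgπ k
    · show (z k ≫ mapThick f (π H) I k) ≫ CohB1.thickToBase f I k = y k ≫ CohB1.thickToBase f I k
      rw [Category.assoc, mapThick_toBase]
      exact pullback.lift_snd _ _ _
  have htz : ∀ k, IsPullback (t k) (z k) (z (k + 1)) (CohB1.thickTrans q I k) := fun k =>
    isPullback_lift_system f (π H) I k (t k) (y k) (y (k + 1)) (ht k) (g k) (g (k + 1)) (hgt k) (z k) (z (k + 1))
      (hz1 k) (hz1 (k + 1)) (hzμ k) (hzμ (k + 1))
  have hpz : IsProper (z 0 ≫ CohB1.thickToBase q I 0) := by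
    have : z 0 ≫ CohB1.thickToBase q I 0 = y 0 ≫ CohB1.thickToBase f I 0 := pullback.lift_snd _ _ _
    rw [this]; exact hp
  obtain ⟨W, i, w, hi, hip, hw, hcart⟩ := Groth.Agent.S0040.result A I q Y z t hz htz hpz
  haveI := hi
  haveI : IsProper ((i ≫ π H) ≫ f) := by rw [Category.assoc]; exact hip
  haveI : IsProper (i ≫ π H) := IsProper.of_comp (i ≫ π H) f
  refine ⟨W, i ≫ π H, w, (IsFinite.iff_isProper_and_isAffineHom).mpr ⟨inferInstance, inferInstance⟩,
    inferInstance, hw, fun n => ?_⟩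
  rw [← hzμ n]
  exact (hcart n).paste_vert (isPullback_mapThick f (π H) I n)

end Groth.L27.AlgFin
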