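import Groth.Agent.L16.Exist.AlgClosedSupp
import Groth.Agent.L16.Exist.PushPull

/-! # Formal modules of finite schemes over the thickenings -/

set_option autoImplicit false
set_option linter.style.haveILetI false
set_option backward.isDefEq.respectTransparency false
set_option backward.isDefEq.respectTransparency.types false

universe u

open CategoryTheory CategoryTheory.Limits AlgebraicGeometry TopologicalSpace Opposite

noncomputable section

namespace Groth.L27.AlgFin

open Groth.L16 Groth.L16.Exist Groth.L16.Exist.Adic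
open Formal (smulMod modPow modPowπ modPowTrans modPowπ_trans)
open Groth.L18.Frame (rs ro rs_rs rs_smul rs_self)
open AffineBC (scal)

variable {A : Type u} [CommRing A] [IsNoetherianRing A] {I : Ideal A} {X : Scheme.{u}}
  [X.Over (Spec (CommRingCat.of A))] {Xs : ℕ → Scheme.{u}} [∀ k, (Xs k).Over (Spec (CommRingCat.of A))]
  {p : (k : ℕ) → (Xs k ⟶ Spec (CommRingCat.of (A ⧸ I ^ (k + 1))))} {i : (k : ℕ) → (Xs k ⟶ Xs (k + 1))}
  (e : (k : ℕ) → (Xs k ⟶ X)) (he : ∀ k, e k = i k ≫ e (k + 1)) (N : (k : ℕ) → (Xs k).Modules)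
  (ψ : ∀ k, (Scheme.Modules.pullback (i k)).obj (N (k + 1)) ≅ N k)

theorem isCohFormal_pushSys_finite [AlgebraicGeometry.IsNoetherian X] (S : IsSys I Xs p i)
    (hcl : ∀ k, IsFinite (e k))
    (hbase : ∀ k, e k ≫ (X ↘ Spec (CommRingCat.of A)) = Xs k ↘ Spec (CommRingCat.of A))
    (hN : ∀ k, Coh.IsCoh (N k)) : Formal.IsCohFormal I (pushSys e he N ψ) := by
  refine isCohFormal_of_sect (fun k => ?_) (fun k a ha => ?_) fun k U hU => ?_
  · haveI := hcl k
    exact Groth.L16.Exist.isCoh_pushforward (e k) (hN k)
  · show smulMod A ((Coh.push (e k)).obj (N k)) a = 0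
    haveI := hcl k
    rw [Supp.smulMod_push (e k) (hbase k), smulMod_eq_zero (p k) (S.base k) _ ha, Functor.map_zero]
  · rw [pushSys_map]
    haveI := hcl (k + 1)
    let V := e (k + 1) ⁻¹ᵁ U
    have hV : IsAffineOpen V := hU.preimage (e (k + 1))
    let η := (Scheme.Modules.pullbackPushforwardAdjunction (i k)).unit.app (N (k + 1))
    obtain ⟨hs, hk⟩ := sect_c S N hN k ⟨V, hV⟩
    let θ := (Coh.push (e (k + 1))).mapIso ((Coh.push (i k)).mapIso (ψ k)) ≪≫
      (Scheme.Modules.pushforwardComp (i k) (e (k + 1))).app (N k) ≪≫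
      (Scheme.Modules.pushforwardCongr (he k).symm).app (N k)
    have hb : Function.Bijective (θ.hom.app U) := ConcreteCategory.bijective_of_isIso (θ.hom.app U)
    refine ⟨fun y => ?_, fun x hx => ?_⟩
    · obtain ⟨z, rfl⟩ := hb.2 y
      obtain ⟨w, hw⟩ := hs z
      exact ⟨w, congrArg (θ.hom.app U) hw⟩
    · have hx' : η.app V x = 0 := hb.1 (hx.trans (map_zero _).symm)
      refine Submodule.smul_induction_on (hk x hx') ?_ ?_
      · intro b hb z _
        induction hb using Submodule.span_induction generalizing z with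
        | mem y hy =>
          obtain ⟨t, ht, rfl⟩ := hy
          have e1 : (show Γ((Coh.push (e (k + 1))).obj (N (k + 1)), U) from scal A (Xs (k + 1)) V t • z) =
              scal A X U t • (show Γ((Coh.push (e (k + 1))).obj (N (k + 1)), U) from z) := by
            rw [← HomSh.smulMod_app, ← HomSh.smulMod_app, Supp.smulMod_push (e (k + 1)) (hbase (k + 1))]
            rfl
          show (show Γ((Coh.push (e (k + 1))).obj (N (k + 1)), U) from scal A (Xs (k + 1)) V t • z) ∈ _
          rw [e1, ← Ideal.map_pow]
          exact Submodule.smul_mem_smul (Ideal.mem_map_of_mem _ ht) trivial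
        | zero => rw [zero_smul]; exact zero_mem _
        | add y y' _ _ h h' => rw [add_smul]; exact add_mem (h z trivial) (h' z trivial)
        | smul d y _ h => rw [smul_assoc, smul_comm]; exact h _ trivial
      · intro z z' hz hz'
        exact add_mem hz hz'


end Groth.L27.AlgFin
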